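import Cfsg.Agent.Lib.FeitHigman.Spectral

/-! Rationality of the multiplicities forces `m ∈ {2, 3, 4, 6, 8}`. -/

set_option autoImplicit false

namespace CfsgLib.FeitHigman

open Real

theorem dvd_of_totient_le_four {d : ℕ} (hd : 0 < d) (h : d.totient ≤ 4) : d ∣ 120 := by
  rw [Nat.dvd_iff_prime_pow_dvd_dvd]
  intro r k hr hk
  rcases k with _ | k
  · simp
  have hb : r ^ k * (r - 1) ≤ 4 := by
    rw [← Nat.totient_prime_pow_succ hr]
    exact le_trans (Nat.le_of_dvd (Nat.totient_pos.2 hd) (Nat.totient_dvd_of_dvd hk)) h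
  have h2 := hr.two_le
  have hk1 : 1 ≤ r ^ k := Nat.one_le_pow _ _ (by omega)
  have hr5 : r ≤ 5 := by
    have : r - 1 ≤ 4 := le_trans (Nat.le_mul_of_pos_left _ hk1) hb
    omega
  have hk2 : 2 ^ k ≤ 4 := le_trans (Nat.pow_le_pow_left h2 k)
    (le_trans (Nat.le_mul_of_pos_right _ (by omega)) hb)
  have hk3 : k ≤ 2 := by
    by_contra hc
    have : 2 ^ 3 ≤ 2 ^ k := Nat.pow_le_pow_right (by norm_num) (by omega)
    norm_num at this
    omega
  have hr4 : r ≠ 4 := by rintro rfl; norm_num at hr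
  have : r = 2 ∨ r = 3 ∨ r = 5 := by omega
  rcases this with rfl | rfl | rfl <;> interval_cases k <;> simp_all +decide

theorem small_totient {d : ℕ} (hd : 5 ≤ d) (h : d.totient ≤ 4) :
    d = 5 ∨ d = 6 ∨ d = 8 ∨ d = 10 ∨ d = 12 := by
  have key : ∀ e ∈ Nat.divisors 120, 5 ≤ e → e.totient ≤ 4 →
      e = 5 ∨ e = 6 ∨ e = 8 ∨ e = 10 ∨ e = 12 := by
    decide +kernel
  exact key d (Nat.mem_divisors.2 ⟨dvd_of_totient_le_four (by omega) h, by norm_num⟩) hd h

theorem totient_le_of_cos {n : ℕ} (hn : n ≠ 0) {a b e : ℚ} (hab : a ≠ 0 ∨ b ≠ 0)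
    (h : (a : ℝ) * Real.cos (2 * π / n) ^ 2 + b * Real.cos (2 * π / n) + e = 0) :
    n.totient ≤ 4 := by
  have hz := Complex.isPrimitiveRoot_exp n hn
  generalize hζ : Complex.exp (2 * (π : ℂ) * Complex.I / n) = ζ at hz
  have hζ0 : ζ ≠ 0 := hz.ne_zero hn
  have hc : ((Real.cos (2 * π / n) : ℝ) : ℂ) = (ζ + ζ⁻¹) / 2 := by
    rw [← hζ, Complex.ofReal_cos, Complex.cos, ← Complex.exp_neg]
    push_cast
    congr 2 <;> congr 1 <;> ring
  have h' := congrArg (fun x : ℝ => (x : ℂ)) h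
  push_cast at h'
  rw [show Complex.cos (2 * (π : ℂ) / n) = (ζ + ζ⁻¹) / 2 by rw [← hc]; push_cast; rfl] at h'
  set Q : Polynomial ℚ := Polynomial.C (a / 4) * Polynomial.X ^ 4 +
    Polynomial.C (b / 2) * Polynomial.X ^ 3 + Polynomial.C (a / 2 + e) * Polynomial.X ^ 2 +
    Polynomial.C (b / 2) * Polynomial.X + Polynomial.C (a / 4) with hQ
  have hQ0 : Q ≠ 0 := by
    intro h0
    have h4 := congrArg (fun P => Polynomial.coeff P 4) h0
    have h3 := congrArg (fun P => Polynomial.coeff P 3) h0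
    simp [hQ, add_mul, Polynomial.coeff_X, Polynomial.coeff_C, Polynomial.coeff_C_mul, Polynomial.coeff_X_pow] at h4 h3
    rcases hab with ha | hb
    · exact ha h4
    · exact hb h3
  have hroot : Polynomial.aeval ζ Q = 0 := by
    simp only [hQ, map_add, map_mul, Polynomial.aeval_C, Polynomial.aeval_X, map_pow,
      eq_ratCast]
    push_cast
    field_simp at h'
    linear_combination (1 / 4 : ℂ) * h'
  have hdeg : Q.natDegree ≤ 4 := by rw [hQ]; compute_degree
  calc n.totient = (minpoly ℚ ζ).natDegree := by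
        rw [← Polynomial.cyclotomic_eq_minpoly_rat hz (Nat.pos_of_ne_zero hn),
          Polynomial.natDegree_cyclotomic]
    _ ≤ Q.natDegree := Polynomial.natDegree_le_of_dvd (minpoly.dvd ℚ ζ hroot) hQ0
    _ ≤ 4 := hdeg

theorem indep_sqrt {D : ℕ} (hD : Nat.Prime D) {a b : ℚ} (h : (a : ℝ) + b * √D = 0) :
    a = 0 ∧ b = 0 := by
  rcases eq_or_ne b 0 with rfl | hb
  · simpa using h
  · exact absurd ⟨-a / b, by push_cast; field_simp; linarith⟩ hD.irrational_sqrt

/-- A root of the multiplicity equation with square in `ℚ(√D) ∖ ℚ` is impossible. -/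
theorem quad_contra {D : ℕ} (hD : Nat.Prime D) {p q : ℕ} (hp : 2 ≤ p) (hq : 2 ≤ q)
    {R e₀ e₁ : ℚ} {y : ℝ} (hy : 0 < y)
    (heq : (R : ℝ) * (4 * p * q - y ^ 2) = ((p : ℝ) * q + 1 - y) * ((p : ℝ) + q + y))
    (he₀ : e₀ ≤ 1) (he₁ : 0 < e₁)
    (hu : y ^ 2 = 2 * (p : ℝ) * q * (1 + e₀ + e₁ * √D)) : False := by
  have hp' : (2 : ℚ) ≤ p := by exact_mod_cast hp
  have hq' : (2 : ℚ) ≤ q := by exact_mod_cast hq
  have hpq : (4 : ℚ) ≤ p * q := by nlinarith
  generalize hβ : ((p : ℚ) - 1) * ((q : ℚ) - 1) = β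
  have hβpos : 0 < β := by rw [← hβ]; nlinarith
  generalize hγ : ((p : ℚ) * q + 1) * ((p : ℚ) + q) - 4 * p * q * R = γ
  generalize hu0 : 2 * (p : ℚ) * q * (1 + e₀) = u₀
  generalize hu1 : 2 * (p : ℚ) * q * e₁ = u₁
  have hu1pos : 0 < u₁ := by rw [← hu1]; exact mul_pos (by nlinarith) he₁
  have hu0le : u₀ ≤ 4 * p * q := by rw [← hu0]; nlinarith
  have hu' : y ^ 2 = (u₀ : ℝ) + u₁ * √D := by rw [hu, ← hu0, ← hu1]; push_cast; ring
  have hlin : ((R - 1 : ℚ) : ℝ) * y ^ 2 + (β : ℝ) * y + γ = 0 := by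
    rw [← hβ, ← hγ]; push_cast; linear_combination -heq
  obtain ⟨a, ha⟩ : ∃ a : ℚ, a = -(γ + (R - 1) * u₀) / β := ⟨_, rfl⟩
  obtain ⟨b, hb⟩ : ∃ b : ℚ, b = -((R - 1) * u₁) / β := ⟨_, rfl⟩
  have hy' : y = (a : ℝ) + b * √D := by
    rw [ha, hb]
    have : (β : ℝ) ≠ 0 := by exact_mod_cast hβpos.ne'
    push_cast at hlin ⊢
    field_simp
    rw [hu'] at hlin
    linear_combination hlin
  have hs : √(D : ℝ) ^ 2 = D := Real.sq_sqrt (Nat.cast_nonneg _)
  obtain ⟨h0, h1⟩ := indep_sqrt hD (a := a ^ 2 + D * b ^ 2 - u₀) (b := 2 * a * b - u₁) (by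
    push_cast
    rw [hy'] at hu'
    linear_combination hu' - (b : ℝ) ^ 2 * hs)
  have hab : 0 < a * b := by linarith
  rcases pos_and_pos_or_neg_and_neg_of_mul_pos hab with ⟨hapos, hbpos⟩ | ⟨haneg, hbneg⟩
  · have hX : R - 1 < 0 := by
      rw [hb] at hbpos
      by_contra hc
      push Not at hc
      have : -((R - 1) * u₁) / β ≤ 0 :=
        div_nonpos_of_nonpos_of_nonneg (by nlinarith) hβpos.le
      linarith
    rw [ha, lt_div_iff₀ hβpos, zero_mul] at hapos
    have h4 : 4 * (p : ℚ) * q ≤ ((p : ℚ) * q + 1) * ((p : ℚ) + q) := by nlinarith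
    have h5 : (R - 1) * (4 * p * q) ≤ (R - 1) * u₀ := mul_le_mul_of_nonpos_left hu0le hX.le
    rw [← hγ] at hapos
    linarith
  · rw [hy'] at hy
    have h1' : (a : ℝ) < 0 := by exact_mod_cast haneg
    have h2' : (b : ℝ) < 0 := by exact_mod_cast hbneg
    nlinarith [Real.sqrt_nonneg (D : ℝ)]

variable {X : Type*} [Fintype X] [DecidableEq X] {p q m : ℕ}

theorem exp_facts (x : ℝ) (h0 : 0 < x) (hπ : x < π) :
    Complex.exp ((x : ℂ) * Complex.I) ^ 2 ≠ 1 ∧
      Complex.exp ((x : ℂ) * Complex.I) + (Complex.exp ((x : ℂ) * Complex.I))⁻¹ =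
        ((2 * Real.cos x : ℝ) : ℂ) := by
  constructor
  · intro h
    rw [Complex.exp_mul_I, ← Complex.ofReal_cos, ← Complex.ofReal_sin] at h
    have h1 := congrArg Complex.re h
    have hs := Real.sin_pos_of_pos_of_lt_pi h0 hπ
    simp [pow_two, Complex.mul_re, Complex.mul_im, Complex.cos_ofReal_re, Complex.sin_ofReal_re] at h1
    nlinarith [Real.sin_sq_add_cos_sq x, mul_pos hs hs]
  · rw [← Complex.exp_neg, Complex.ofReal_mul, Complex.ofReal_cos, Complex.ofReal_ofNat,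
      Complex.two_cos, neg_mul]

theorem exp_pow_eq_one (x : ℝ) (n k : ℕ) (h : (n : ℝ) * x = k * (2 * π)) :
    Complex.exp ((x : ℂ) * Complex.I) ^ n = 1 := by
  rw [← Complex.exp_nat_mul]
  have h' : (n : ℂ) * ((x : ℂ) * Complex.I) = (k : ℂ) * (2 * (π : ℂ) * Complex.I) := by
    have := congrArg (fun t : ℝ => (t : ℂ)) h
    push_cast at this
    linear_combination Complex.I * this
  rw [h', Complex.exp_nat_mul, Complex.exp_two_pi_mul_I, one_pow]

theorem even_equation (D : Datum X p q m) (d : ℕ) (hd : 2 ≤ d) (hm : m = 2 * d) (k : ℕ)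
    (hk : 1 ≤ k) (hkd : k < d) :
    ∃ R : ℚ, (R : ℝ) * (4 * p * q - (2 * √((p : ℝ) * q) * Real.cos (k * π / d)) ^ 2) =
      ((p : ℝ) * q + 1 - 2 * √((p : ℝ) * q) * Real.cos (k * π / d)) *
        ((p : ℝ) + q + 2 * √((p : ℝ) * q) * Real.cos (k * π / d)) := by
  have hd' : (0 : ℝ) < d := by exact_mod_cast (by omega : 0 < d)
  have hk' : (0 : ℝ) < k := by exact_mod_cast (by omega : 0 < k)
  have hp : (2 : ℝ) ≤ p := by exact_mod_cast D.two_le_p
  have hq : (2 : ℝ) ≤ q := by exact_mod_cast D.two_le_q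
  generalize hx : (k : ℝ) * π / d = x
  have hx0 : 0 < x := by rw [← hx]; positivity
  have hxπ : x < π := by
    rw [← hx, div_lt_iff₀ hd', mul_comm π]
    exact mul_lt_mul_of_pos_right (by exact_mod_cast hkd) pi_pos
  obtain ⟨hz2, hzs⟩ := exp_facts x hx0 hxπ
  have hzpow := exp_pow_eq_one x (2 * d) k (by rw [← hx]; push_cast; field_simp)
  generalize hy : 2 * √((p : ℝ) * q) * Real.cos x = y
  have hyc : ((√((p : ℝ) * q) : ℝ) : ℂ) *
      (Complex.exp ((x : ℂ) * Complex.I) + (Complex.exp ((x : ℂ) * Complex.I))⁻¹) = (y : ℂ) := by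
    rw [hzs, ← hy]; push_cast; ring
  have hpar : D.Par (Complex.exp ((x : ℂ) * Complex.I)) ((√((p : ℝ) * q) : ℝ) : ℂ) :=
    ⟨Complex.exp_ne_zero _, hz2, by
      rw [← Complex.ofReal_pow, Real.sq_sqrt (by positivity)]; push_cast; rfl⟩
  have hr : √((p : ℝ) * q) ^ 2 = p * q := Real.sq_sqrt (by positivity)
  have hr0 := Real.sqrt_nonneg ((p : ℝ) * q)
  have hy1 : y ≤ 2 * √((p : ℝ) * q) := by
    rw [← hy]; nlinarith [Real.cos_le_one x]
  have hy2 : -(2 * √((p : ℝ) * q)) < y := by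
    have hc : -1 < Real.cos x := by
      rw [← Real.cos_pi]
      exact Real.cos_lt_cos_of_nonneg_of_le_pi hx0.le le_rfl hxπ
    have : 0 < √((p : ℝ) * q) := Real.sqrt_pos.2 (by positivity)
    rw [← hy]; nlinarith
  have hpq4 : (4 : ℝ) ≤ p * q := by nlinarith
  have h1 : 0 < (p : ℝ) * q + 1 - y := by nlinarith [sq_nonneg (√((p : ℝ) * q) - 1)]
  have h2 : 0 < (p : ℝ) + q + y := by
    have : 2 * √((p : ℝ) * q) ≤ p + q := by nlinarith [sq_nonneg ((p : ℝ) - q)]
    linarith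
  obtain ⟨f, hf0, hf⟩ := D.mult_even d hd hm hpar hzpow (by
    rw [hyc]
    exact_mod_cast (mul_pos h1 h2).ne')
  rw [hyc] at hf
  have hf' : (Fintype.card X : ℝ) * (4 * p * q - y ^ 2) =
      f * m * (((p : ℝ) * q + 1 - y) * ((p : ℝ) + q + y)) := by
    exact_mod_cast hf
  refine ⟨(Fintype.card X : ℚ) / (f * m), ?_⟩
  have hfm : (f : ℝ) * m ≠ 0 :=
    mul_ne_zero (by exact_mod_cast hf0) (by exact_mod_cast (by omega : m ≠ 0))
  push_cast
  rw [div_mul_eq_mul_div, hf', mul_div_assoc, mul_comm ((f : ℝ) * m), div_mul_cancel₀ _ hfm]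

theorem rational_of_equation {R : ℚ} {y : ℝ} (hp : 2 ≤ p) (hq : 2 ≤ q) (v : ℚ) (hv : y ^ 2 = v)
    (h : (R : ℝ) * (4 * p * q - y ^ 2) = ((p : ℝ) * q + 1 - y) * ((p : ℝ) + q + y)) :
    ∃ c : ℚ, y = c := by
  refine ⟨-(((R - 1) * v + ((p : ℚ) * q + 1) * ((p : ℚ) + q) - 4 * p * q * R)) /
    (((p : ℚ) - 1) * ((q : ℚ) - 1)), ?_⟩
  have h1 : (2 : ℝ) ≤ p := by exact_mod_cast hp
  have h2 : (2 : ℝ) ≤ q := by exact_mod_cast hq
  have h3 : ((p : ℝ) - 1) * ((q : ℝ) - 1) ≠ 0 := by nlinarith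
  push_cast
  rw [← hv, eq_div_iff h3]
  linear_combination -h

theorem datum_bound (D : Datum X p q m) (hm : 2 ≤ m) (hodd : Odd m → p = q) :
    m = 2 ∨ m = 3 ∨ m = 4 ∨ m = 6 ∨ m = 8 := by
  rcases Nat.even_or_odd m with ⟨d, hd⟩ | hmodd
  · by_contra hcon
    have hd5 : 5 ≤ d := by omega
    have hm' : m = 2 * d := by omega
    have hp := D.two_le_p
    have hq := D.two_le_q
    obtain ⟨R, hR⟩ := even_equation D d (by omega) hm' 1 le_rfl (by omega)
    rw [Nat.cast_one, one_mul] at hR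
    have hd' : (0 : ℝ) < d := by exact_mod_cast (by omega : 0 < d)
    have hr : √((p : ℝ) * q) ^ 2 = p * q := Real.sq_sqrt (by positivity)
    have hrpos : 0 < √((p : ℝ) * q) := Real.sqrt_pos.2 (by
      have : (2 : ℝ) ≤ p := by exact_mod_cast hp
      have : (2 : ℝ) ≤ q := by exact_mod_cast hq
      positivity)
    have hy2 : (2 * √((p : ℝ) * q) * Real.cos (π / d)) ^ 2 =
        2 * (p : ℝ) * q * (1 + Real.cos (2 * π / d)) := by
      rw [mul_div_assoc, Real.cos_two_mul, mul_pow, mul_pow, hr]; ring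
    have hypos : 0 < 2 * √((p : ℝ) * q) * Real.cos (π / d) := by
      refine mul_pos (by positivity) (Real.cos_pos_of_mem_Ioo ⟨?_, ?_⟩)
      · linarith [pi_pos, div_pos pi_pos hd']
      · have : (5 : ℝ) ≤ d := by exact_mod_cast hd5
        rw [div_lt_div_iff₀ hd' two_pos]
        nlinarith [pi_pos]
    have hp' : (2 : ℚ) ≤ p := by exact_mod_cast hp
    have hq' : (2 : ℚ) ≤ q := by exact_mod_cast hq
    have hphi : d.totient ≤ 4 := by
      obtain ⟨s, hs⟩ : ∃ s : ℚ, s = 2 * (p : ℚ) * q * (R - 1) := ⟨_, rfl⟩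
      obtain ⟨γ, hγ⟩ : ∃ γ : ℚ, γ = ((p : ℚ) * q + 1) * ((p : ℚ) + q) - 4 * p * q * R := ⟨_, rfl⟩
      obtain ⟨β, hβ⟩ : ∃ β : ℚ, β = ((p : ℚ) - 1) * ((q : ℚ) - 1) := ⟨_, rfl⟩
      have hβ0 : β ≠ 0 := by rw [hβ]; nlinarith
      refine totient_le_of_cos (by omega) (a := s ^ 2)
        (b := 2 * s * (s + γ) - 2 * p * q * β ^ 2) (e := (s + γ) ^ 2 - 2 * p * q * β ^ 2) ?_ ?_
      · rcases eq_or_ne s 0 with h0 | h0
        · right
          rw [h0]
          simp only [mul_zero, zero_mul, zero_sub, neg_ne_zero]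
          exact mul_ne_zero (by nlinarith) (pow_ne_zero _ hβ0)
        · exact Or.inl (pow_ne_zero _ h0)
      · generalize hy : 2 * √((p : ℝ) * q) * Real.cos (π / d) = y at hR hy2
        have hlin : (s : ℝ) * (1 + Real.cos (2 * π / d)) + γ = -((β : ℝ) * y) := by
          rw [hs, hγ, hβ]
          push_cast
          rw [hy2] at hR
          linear_combination -hR + (1 : ℝ) * hy2
        push_cast
        linear_combination ((s : ℝ) * (1 + Real.cos (2 * π / d)) + γ - (β : ℝ) * y) * hlin +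
          (β : ℝ) ^ 2 * hy2
    rcases small_totient hd5 hphi with rfl | rfl | rfl | rfl | rfl
    · refine quad_contra (D := 5) Nat.prime_five hp hq hypos hR (e₀ := -1 / 4) (e₁ := 1 / 4)
        (by norm_num) (by norm_num) ?_
      rw [hy2]
      push_cast
      rw [mul_div_assoc, Real.cos_two_mul, Real.cos_pi_div_five]
      have h5 : √(5 : ℝ) ^ 2 = 5 := Real.sq_sqrt (by norm_num)
      linear_combination ((p : ℝ) * q / 4) * h5
    · obtain ⟨R₂, hR₂⟩ := even_equation D 6 (by omega) hm' 2 (by omega) (by omega)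
      push_cast at hR hR₂ hy2 hypos
      rw [show (2 : ℝ) * π / 6 = π / 3 by ring, Real.cos_pi_div_three] at hR₂ hy2
      obtain ⟨c, hc⟩ := rational_of_equation hp hq ((p : ℚ) * q)
        (by rw [mul_pow, mul_pow, hr]; push_cast; ring) hR₂
      obtain ⟨c₁, hc₁⟩ := rational_of_equation hp hq (3 * (p : ℚ) * q)
        (by rw [hy2]; push_cast; ring) hR
      rw [Real.cos_pi_div_six] at hc₁
      have hc0 : (c : ℝ) ≠ 0 := by rw [← hc]; positivity
      refine Nat.prime_three.irrational_sqrt ⟨c₁ / c, ?_⟩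
      push_cast
      rw [← hc₁, ← hc]
      field_simp
    · refine quad_contra (D := 2) Nat.prime_two hp hq hypos hR (e₀ := 0) (e₁ := 1 / 2)
        (by norm_num) (by norm_num) ?_
      rw [hy2]
      push_cast
      rw [show (2 : ℝ) * π / 8 = π / 4 by ring, Real.cos_pi_div_four]
      ring
    · refine quad_contra (D := 5) Nat.prime_five hp hq hypos hR (e₀ := 1 / 4) (e₁ := 1 / 4)
        (by norm_num) (by norm_num) ?_
      rw [hy2]
      push_cast
      rw [show (2 : ℝ) * π / 10 = π / 5 by ring, Real.cos_pi_div_five]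
      ring
    · refine quad_contra (D := 3) Nat.prime_three hp hq hypos hR (e₀ := 0) (e₁ := 1 / 2)
        (by norm_num) (by norm_num) ?_
      rw [hy2]
      push_cast
      rw [show (2 : ℝ) * π / 12 = π / 6 by ring, Real.cos_pi_div_six]
      ring
  · obtain ⟨d, hd⟩ := hmodd
    by_contra hcon
    have hd2 : 2 ≤ d := by omega
    obtain rfl := hodd ⟨d, hd⟩
    have hm' : (5 : ℝ) ≤ m := by exact_mod_cast (by omega : 5 ≤ m)
    have hp : (2 : ℝ) ≤ p := by exact_mod_cast D.two_le_p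
    generalize hx : 2 * π / (m : ℝ) = x
    have hx0 : 0 < x := by rw [← hx]; positivity
    have hxπ : x < π := by
      rw [← hx, div_lt_iff₀ (by linarith)]; nlinarith [pi_pos]
    obtain ⟨hz2, hzs⟩ := exp_facts x hx0 hxπ
    have hzpow := exp_pow_eq_one x (2 * d + 1) 1 (by
      rw [← hx, ← hd, Nat.cast_one, one_mul]; field_simp)
    have hpar : D.Par (Complex.exp ((x : ℂ) * Complex.I)) (p : ℂ) :=
      ⟨Complex.exp_ne_zero _, hz2, pow_two _⟩
    have hpos : 0 < (p : ℝ) * (2 - 2 * Real.cos x) + ((p : ℝ) - 1) ^ 2 := by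
      have : 0 < ((p : ℝ) - 1) ^ 2 := by nlinarith
      nlinarith [Real.cos_le_one x]
    obtain ⟨f, hf0, hf⟩ := D.mult_odd d hd2 hd rfl hpar hzpow (by
      rw [hzs]; exact_mod_cast hpos.ne')
    rw [hzs] at hf
    have hf' : (Fintype.card X : ℝ) * ((p : ℝ) * (2 - 2 * Real.cos x)) =
        f * m * ((p : ℝ) * (2 - 2 * Real.cos x) + ((p : ℝ) - 1) ^ 2) := by
      exact_mod_cast hf
    have hfm : (0 : ℝ) < f * m := by
      have : (0 : ℝ) < f := by exact_mod_cast Nat.pos_of_ne_zero hf0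
      nlinarith
    have hne : (Fintype.card X : ℝ) - f * m ≠ 0 := by
      intro h0
      rw [sub_eq_zero] at h0
      rw [h0] at hf'
      have : (0 : ℝ) < ((p : ℝ) - 1) ^ 2 := by nlinarith
      nlinarith [mul_pos hfm this]
    have hcos : ∃ c : ℚ, Real.cos x = c := by
      refine ⟨1 - (f * m * ((p : ℚ) - 1) ^ 2) / (2 * p * ((Fintype.card X : ℚ) - f * m)), ?_⟩
      push_cast
      have : (p : ℝ) ≠ 0 := by linarith
      field_simp
      linear_combination -hf'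
    have h := niven_angle_eq ⟨2 / (m : ℚ), by rw [← hx]; push_cast; ring⟩ hcos
      ⟨hx0.le, hxπ.le⟩
    simp only [Set.mem_insert_iff, Set.mem_singleton_iff] at h
    rcases h with h | h | h | h | h
    · linarith
    · rw [← hx, div_eq_iff (by linarith)] at h
      have h6 : (m : ℝ) = ((6 : ℕ) : ℝ) := by push_cast; nlinarith [pi_pos]
      have : m = 6 := Nat.cast_injective h6
      omega
    · rw [← hx, div_eq_iff (by linarith)] at h; nlinarith [pi_pos]
    · rw [← hx, div_eq_iff (by linarith)] at h; nlinarith [pi_pos]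
    · linarith

end CfsgLib.FeitHigman
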