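import Mathlib

/-!
Two generators `A`, `B` of a matrix algebra satisfying quadratic relations and a dihedral braid
relation, with vanishing traces of the non-empty alternating products of length at most `m`.
The multiplicities of the eigenvalues of `(1 + A) B` are natural numbers; this gives the rationality
conditions behind the Feit–Higman theorem.
-/

set_option autoImplicit false

namespace CfsgLib.FeitHigman

open Matrix Finset

variable {X : Type*} [Fintype X] [DecidableEq X]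

/-- The alternating product `A B A …` with `n` factors. -/
def aw {R : Type*} [Monoid R] : R → R → ℕ → R
  | _, _, 0 => 1
  | A, B, n + 1 => A * aw B A n

theorem aw_odd {R : Type*} [Monoid R] (A B : R) : ∀ j : ℕ, aw A B (2 * j + 1) = (A * B) ^ j * A
  | 0 => by simp [aw]
  | j + 1 => by
    show A * (B * aw A B (2 * j + 1)) = _
    rw [aw_odd A B j, pow_succ']
    simp only [mul_assoc]

theorem aw_even {R : Type*} [Monoid R] (A B : R) : ∀ j : ℕ, aw A B (2 * j) = (A * B) ^ j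
  | 0 => by simp [aw]
  | j + 1 => by
    show A * (B * aw A B (2 * j)) = _
    rw [aw_even A B j, pow_succ']
    simp only [mul_assoc]

/-- The trace of an idempotent matrix is a natural number. -/
theorem trace_idempotent (P : Matrix X X ℂ) (h : P * P = P) : ∃ f : ℕ, P.trace = (f : ℂ) := by
  have hi : IsIdempotentElem (Matrix.toLin' P) := by
    show Matrix.toLin' P * Matrix.toLin' P = _
    rw [Module.End.mul_eq_comp, ← Matrix.toLin'_mul, h]
  have hp := (LinearMap.isProj_range_iff_isIdempotentElem (Matrix.toLin' P)).2 hi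
  exact ⟨_, (Matrix.trace_toLin'_eq P).symm.trans hp.trace⟩

/-- The data coming from a group with a (B,N)-pair of rank two with Weyl group of order `2m`. -/
structure Datum (X : Type*) [Fintype X] [DecidableEq X] (p q m : ℕ) where
  A : Matrix X X ℂ
  B : Matrix X X ℂ
  nonempty : Nonempty X
  two_le_p : 2 ≤ p
  two_le_q : 2 ≤ q
  sqA : A * A = ((p : ℂ) - 1) • A + (p : ℂ) • 1
  sqB : B * B = ((q : ℂ) - 1) • B + (q : ℂ) • 1
  braid : aw A B m = aw B A m
  trA : ∀ n, 1 ≤ n → n ≤ m → (aw A B n).trace = 0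
  trB : ∀ n, 1 ≤ n → n ≤ m → (aw B A n).trace = 0

namespace Datum

variable {p q m : ℕ} (D : Datum X p q m)

/-- `1 + A`. -/
def J : Matrix X X ℂ := 1 + D.A

theorem J_mul_A : D.J * D.A = (p : ℂ) • D.J := by
  rw [J, add_mul, one_mul, D.sqA]
  module

theorem A_mul_J : D.A * D.J = (p : ℂ) • D.J := by
  rw [J, mul_add, mul_one, D.sqA]
  module

theorem J_mul_J : D.J * D.J = ((p : ℂ) + 1) • D.J := by
  nth_rw 1 [J]
  rw [add_mul, one_mul, A_mul_J]
  module

/-- `B A B … B` with `2j+1` factors. -/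
def Z (j : ℕ) : Matrix X X ℂ := (D.B * D.A) ^ j * D.B

theorem Z_succ (j : ℕ) : D.Z (j + 1) = D.B * (D.A * D.Z j) := by
  simp only [Z, pow_succ', mul_assoc]

/-- The operators attached to the double cosets of the parabolic subgroup. -/
def M : ℕ → Matrix X X ℂ
  | 0 => D.J
  | j + 1 => D.J * D.Z j * D.J

theorem J_mul_M : ∀ i, D.J * D.M i = ((p : ℂ) + 1) • D.M i
  | 0 => D.J_mul_J
  | j + 1 => by
    show D.J * (D.J * D.Z j * D.J) = _
    rw [← mul_assoc, ← mul_assoc, D.J_mul_J, smul_mul_assoc, smul_mul_assoc]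
    rfl

/-- The adjacency operator. -/
def L : Matrix X X ℂ := D.J * D.B

theorem L_M0 : D.L * D.M 0 = D.M 1 := by simp [L, M, Z]

theorem L_M1 : D.L * D.M 1 = D.M 2 + ((q : ℂ) - 1) • D.M 1 + ((q : ℂ) * (p + 1)) • D.M 0 := by
  have h : D.L * D.M 1 = D.J * (D.B * D.B) * D.J + D.J * D.Z 1 * D.J := by
    have : D.L * D.M 1 = D.J * D.B * (D.J * D.B * D.J) := by simp [L, M, Z]
    rw [this, J, Z_succ]
    simp only [Z, pow_zero, one_mul, add_mul, mul_add, mul_one, mul_assoc]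
    abel
  rw [h, D.sqB]
  simp only [M, Z, pow_zero, one_mul, mul_add, add_mul, mul_smul_comm, smul_mul_assoc, mul_one,
    J_mul_J, smul_smul]
  abel

theorem L_M (j : ℕ) : D.L * D.M (j + 2) =
    D.M (j + 3) + ((q : ℂ) - 1) • D.M (j + 2) + ((p : ℂ) * q) • D.M (j + 1) := by
  have h : D.L * D.M (j + 2) =
      D.J * (D.B * D.B) * (D.A * D.Z j) * D.J + D.J * D.Z (j + 2) * D.J := by
    show D.J * D.B * (D.J * D.Z (j + 1) * D.J) = _
    rw [D.Z_succ (j + 1), D.Z_succ j, J]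
    simp only [add_mul, mul_add, one_mul, mul_one, mul_assoc]
    abel
  rw [h, D.sqB]
  simp only [M, mul_add, add_mul, mul_smul_comm, smul_mul_assoc, mul_one, ← mul_assoc,
    J_mul_A, smul_smul]
  rw [show D.J * D.B * D.A * D.Z j = D.J * D.Z (j + 1) by rw [D.Z_succ]; simp only [mul_assoc]]
  rw [mul_comm (q : ℂ) p]
  abel

theorem trace_M0 : (D.M 0).trace = (Fintype.card X : ℂ) + D.A.trace := by
  simp [M, J]

theorem trace_J (hm : 1 ≤ m) : (D.M 0).trace = (Fintype.card X : ℂ) := by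
  have := D.trA 1 le_rfl hm
  simp only [aw, mul_one] at this
  rw [trace_M0, this, add_zero]

theorem trace_M {j : ℕ} (hj : 2 * j + 2 ≤ m) : (D.M (j + 1)).trace = 0 := by
  show (D.J * D.Z j * D.J).trace = 0
  rw [Matrix.trace_mul_comm, ← mul_assoc, D.J_mul_J, smul_mul_assoc, Matrix.trace_smul, J, add_mul,
    one_mul, Matrix.trace_add]
  have h1 := D.trB (2 * j + 1) (by omega) (by omega)
  rw [aw_odd] at h1
  have h2 := D.trA (2 * j + 2) (by omega) hj
  rw [show aw D.A D.B (2 * j + 2) = D.A * aw D.B D.A (2 * j + 1) from rfl, aw_odd] at h2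
  rw [Z, h1, h2]
  simp

theorem boundary_even {e : ℕ} (hm : m = 2 * (e + 2)) :
    D.L * D.M (e + 2) = (((p : ℂ) + 1) * ((q : ℂ) - 1)) • D.M (e + 2) +
      ((p : ℂ) * q * (p + 1)) • D.M (e + 1) := by
  have hb : (D.A * D.B) ^ (e + 2) = (D.B * D.A) ^ (e + 2) := by
    have h1 : aw D.A D.B m = aw D.B D.A m := D.braid
    rw [show aw D.A D.B m = aw D.A D.B (2 * (e + 2)) from congrArg _ hm,
      show aw D.B D.A m = aw D.B D.A (2 * (e + 2)) from congrArg _ hm, aw_even, aw_even] at h1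
    exact h1
  have hZ : D.Z (e + 2) = ((q : ℂ) - 1) • (D.A * D.Z (e + 1)) + (q : ℂ) • (D.A * D.Z e * D.A) := by
    show (D.B * D.A) ^ (e + 2) * D.B = _
    rw [← hb]
    have : (D.A * D.B) ^ (e + 2) * D.B = D.A * (D.B * D.A) ^ (e + 1) * (D.B * D.B) := by
      rw [← mul_assoc, pow_succ' (D.A * D.B), mul_assoc D.A D.B]
      congr 1
      have key : ∀ k, D.B * (D.A * D.B) ^ k = (D.B * D.A) ^ k * D.B := by
        intro k
        induction k with
        | zero => simp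
        | succ k ih => rw [pow_succ, ← mul_assoc, ih, pow_succ]; simp only [mul_assoc]
      rw [key]
      simp only [mul_assoc]
    rw [this, D.sqB, mul_add, mul_smul_comm, mul_smul_comm, mul_one, Z, Z, pow_succ _ e]
    simp only [mul_assoc]
  have h3 : D.M (e + 3) = (((p : ℂ) * ((q : ℂ) - 1))) • D.M (e + 2) +
      ((p : ℂ) * p * q) • D.M (e + 1) := by
    show D.J * D.Z (e + 2) * D.J = _
    rw [hZ]
    simp only [mul_add, add_mul, mul_smul_comm, smul_mul_assoc, ← mul_assoc, D.J_mul_A, smul_smul]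
    simp only [mul_assoc, D.A_mul_J, mul_smul_comm, smul_smul, M]
    module
  rw [D.L_M e, h3]
  module

theorem boundary_odd {e : ℕ} (hm : m = 2 * (e + 2) + 1) :
    D.M (e + 3) = ((p : ℂ) * p) • D.M (e + 2) := by
  have hb : (D.A * D.B) ^ (e + 2) * D.A = (D.B * D.A) ^ (e + 2) * D.B := by
    have h1 : aw D.A D.B m = aw D.B D.A m := D.braid
    rw [show aw D.A D.B m = aw D.A D.B (2 * (e + 2) + 1) from congrArg _ hm,
      show aw D.B D.A m = aw D.B D.A (2 * (e + 2) + 1) from congrArg _ hm, aw_odd, aw_odd] at h1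
    exact h1
  show D.J * D.Z (e + 2) * D.J = _
  rw [Z, ← hb]
  have key : ∀ k, (D.A * D.B) ^ (k + 1) = D.A * D.Z k := by
    intro k
    induction k with
    | zero => simp [Z]
    | succ k ih => rw [pow_succ', ih, D.Z_succ]; simp only [mul_assoc]
  rw [key]
  simp only [← mul_assoc, D.J_mul_A, smul_mul_assoc]
  simp only [mul_assoc, D.A_mul_J, mul_smul_comm, smul_smul, M]

/-! ### The eigenmatrix -/

section eigen

variable (z r : ℂ)

/-- The normalised standard sequence. -/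
noncomputable def w (_D : Datum X p q m) (z r : ℂ) (i : ℕ) : ℂ :=
  (z ^ 2 + ((q : ℂ) - 1) / r * z + -1 / (p : ℂ)) / (z ^ 2 - 1) * z ^ i +
    (1 + ((q : ℂ) - 1) / r * z + -1 / (p : ℂ) * z ^ 2) / (1 - z ^ 2) * (z⁻¹) ^ i

/-- The coefficients of the eigenmatrix. -/
noncomputable def e (i : ℕ) : ℂ :=
  if i = 0 then 1 else (p : ℂ) * D.w z r i / (((p : ℂ) + 1) * r ^ i)

/-- The eigenvalue. -/
noncomputable def θ (_D : Datum X p q m) (z r : ℂ) : ℂ := r * (z + z⁻¹) + ((q : ℂ) - 1)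

/-- Hypotheses on the parameters. -/
structure Par (_D : Datum X p q m) (z r : ℂ) : Prop where
  z0 : z ≠ 0
  z2 : z ^ 2 ≠ 1
  r2 : r ^ 2 = (p : ℂ) * q

variable {z r} (h : D.Par z r)

include D in
theorem p_ne : (p : ℂ) ≠ 0 := by have := D.two_le_p; exact_mod_cast (by omega : p ≠ 0)

include D in
theorem p1_ne : (p : ℂ) + 1 ≠ 0 := by exact_mod_cast (by omega : p + 1 ≠ 0)

include h in
theorem r_ne : r ≠ 0 := by
  intro hr
  have h2 := h.r2
  rw [hr] at h2
  have := D.two_le_q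
  have : (q : ℂ) ≠ 0 := by exact_mod_cast (by omega : q ≠ 0)
  exact mul_ne_zero D.p_ne this (by linear_combination -h2)

include h in
theorem w_zero : D.w z r 0 = 1 + 1 / (p : ℂ) := by
  have h1 : z ^ 2 - 1 ≠ 0 := sub_ne_zero.2 h.z2
  have h2 : 1 - z ^ 2 ≠ 0 := sub_ne_zero.2 (Ne.symm h.z2)
  have := D.p_ne
  have := D.r_ne h
  simp only [w, pow_zero, mul_one]
  field_simp
  ring

include h in
theorem w_one : D.w z r 1 = z + z⁻¹ + ((q : ℂ) - 1) / r := by
  have h1 : z ^ 2 - 1 ≠ 0 := sub_ne_zero.2 h.z2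
  have h2 : 1 - z ^ 2 ≠ 0 := sub_ne_zero.2 (Ne.symm h.z2)
  have := D.p_ne
  have := D.r_ne h
  have := h.z0
  simp only [w, pow_one]
  field_simp
  ring

include h in
theorem w_rec (i : ℕ) : D.w z r (i + 2) = (z + z⁻¹) * D.w z r (i + 1) - D.w z r i := by
  simp only [w]
  generalize (z ^ 2 + ((q : ℂ) - 1) / r * z + -1 / (p : ℂ)) / (z ^ 2 - 1) = c₁
  generalize (1 + ((q : ℂ) - 1) / r * z + -1 / (p : ℂ) * z ^ 2) / (1 - z ^ 2) = c₂
  have hz : z * z⁻¹ = 1 := mul_inv_cancel₀ h.z0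
  linear_combination (c₁ * z ^ i + c₂ * z⁻¹ ^ i) * (-1 : ℂ) * hz

theorem e_zero : D.e z r 0 = 1 := rfl

theorem e_succ (i : ℕ) :
    D.e z r (i + 1) = (p : ℂ) * D.w z r (i + 1) / (((p : ℂ) + 1) * r ^ (i + 1)) := if_neg (by omega)

include h in
theorem e_rec0 : (q : ℂ) * ((p : ℂ) + 1) * D.e z r 1 = θ D z r := by
  have := D.p1_ne
  have := D.r_ne h
  rw [e_succ, D.w_one h, θ]
  have h2 := h.r2
  generalize z + z⁻¹ = s
  field_simp
  linear_combination (-(s * r + ((q : ℂ) - 1))) * h2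

include h in
theorem e_rec (i : ℕ) : D.e z r i + ((q : ℂ) - 1) * D.e z r (i + 1) +
    (p : ℂ) * q * D.e z r (i + 2) = θ D z r * D.e z r (i + 1) := by
  have := D.p_ne
  have := D.p1_ne
  have := D.r_ne h
  have h2 := h.r2
  rw [D.e_succ (i + 1), D.e_succ i, D.w_rec h i, θ]
  rcases i with _ | i
  · rw [D.e_zero, D.w_zero h, D.w_one h, ← h2]
    generalize z + z⁻¹ = s
    field_simp
    ring
  · rw [D.e_succ i, ← h2]
    generalize z + z⁻¹ = s
    simp only [pow_succ]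
    field_simp
    ring

include h in
/-- Partial sums. -/
theorem L_sum (n : ℕ) : D.L * ∑ i ∈ range (n + 2), D.e z r i • D.M i =
    θ D z r • ∑ i ∈ range (n + 2), D.e z r i • D.M i +
      D.e z r (n + 1) • D.M (n + 2) - ((p : ℂ) * q * D.e z r (n + 2)) • D.M (n + 1) := by
  induction n with
  | zero =>
    rw [sum_range_succ, sum_range_one, D.e_zero, mul_add, mul_smul_comm, mul_smul_comm, D.L_M0,
      D.L_M1, ← D.e_rec0 h]
    have := D.e_rec h 0
    rw [D.e_zero, ← D.e_rec0 h] at this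
    simp only [Nat.add_assoc, Nat.reduceAdd, Nat.zero_add, zero_add] at this ⊢
    match_scalars <;> first | linear_combination this | linear_combination -this | ring
  | succ n ih =>
    rw [sum_range_succ, mul_add, ih, mul_smul_comm, D.L_M n]
    have := D.e_rec h (n + 1)
    simp only [Nat.add_assoc, Nat.reduceAdd, Nat.zero_add, zero_add] at this ⊢
    match_scalars <;> first | linear_combination this | linear_combination -this | ring

variable (z r)

/-- `J`-eigen hypothesis gives the eigenvalues of all `M i`. -/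
theorem M_mul_eigen {E : Matrix X X ℂ} (h : D.Par z r) (hJ : D.J * E = ((p : ℂ) + 1) • E)
    (hL : D.L * E = θ D z r • E) :
    ∀ i, D.M (i + 1) * E = (((p : ℂ) + 1) * (r ^ (i + 1) * D.w z r (i + 1))) • E := by
  have h1 : D.M 1 * E = (((p : ℂ) + 1) * θ D z r) • E := by
    rw [← D.L_M0, mul_assoc, show D.M 0 = D.J from rfl, hJ, mul_smul_comm, hL, smul_smul]
  have hr := D.r_ne h
  intro i
  induction i using Nat.strong_induction_on with
  | _ i ih =>
    match i with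
    | 0 =>
      rw [h1, D.w_one h, θ]
      congr 2
      field_simp
      ring
    | 1 =>
      have h2 : D.M 2 = D.L * D.M 1 - ((q : ℂ) - 1) • D.M 1 - ((q : ℂ) * (p + 1)) • D.M 0 := by
        rw [D.L_M1]; abel
      show D.M 2 * E = _
      rw [h2, sub_mul, sub_mul, mul_assoc, h1, smul_mul_assoc, smul_mul_assoc, h1,
        show D.M 0 = D.J from rfl, hJ, mul_smul_comm, hL]
      match_scalars
      have := D.p_ne
      rw [D.w_rec h 0, D.w_zero h, D.w_one h, θ]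
      have h2 := h.r2
      generalize z + z⁻¹ = s
      field_simp
      linear_combination (((p : ℂ) + 1) * r) * h2
    | j + 2 =>
      have h2 : D.M (j + 3) =
          D.L * D.M (j + 2) - ((q : ℂ) - 1) • D.M (j + 2) - ((p : ℂ) * q) • D.M (j + 1) := by
        rw [D.L_M j]; abel
      show D.M (j + 3) * E = _
      rw [h2, sub_mul, sub_mul, mul_assoc, ih (j + 1) (by omega), smul_mul_assoc, smul_mul_assoc,
        ih (j + 1) (by omega), ih j (by omega), mul_smul_comm, hL]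
      match_scalars
      rw [D.w_rec h (j + 1), θ, ← h.r2]
      ring

end eigen

theorem sum_sq {K : Type*} [Field K] (c₁ c₂ z : K) (hz : z ≠ 0) (n : ℕ) :
    ∑ i ∈ range n, (c₁ * z ^ i + c₂ * z⁻¹ ^ i) ^ 2 =
      c₁ ^ 2 * (∑ i ∈ range n, (z ^ 2) ^ i) + c₂ ^ 2 * (∑ i ∈ range n, (z⁻¹ ^ 2) ^ i) +
        2 * n * c₁ * c₂ := by
  have : ∀ i ∈ range n, (c₁ * z ^ i + c₂ * z⁻¹ ^ i) ^ 2 =
      c₁ ^ 2 * (z ^ 2) ^ i + c₂ ^ 2 * (z⁻¹ ^ 2) ^ i + 2 * c₁ * c₂ := by
    intro i _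
    have h1 : z ^ i * z⁻¹ ^ i = 1 := by rw [← mul_pow, mul_inv_cancel₀ hz, one_pow]
    rw [← pow_mul, ← pow_mul, mul_comm 2 i, pow_mul, pow_mul]
    linear_combination (2 * c₁ * c₂) * h1
  rw [sum_congr rfl this, sum_add_distrib, sum_add_distrib, ← mul_sum, ← mul_sum, sum_const,
    card_range, nsmul_eq_mul]
  ring

theorem geom_zero {K : Type*} [Field K] {x : K} (hx : x ≠ 1) {n : ℕ} (h : x ^ n = 1) :
    ∑ i ∈ range n, x ^ i = 0 := by
  rw [geom_sum_eq hx, h, sub_self, zero_div]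

/-- An eigen idempotent has natural trace. -/
theorem multiplicity {E : Matrix X X ℂ} {s : ℂ} (hEE : E * E = s • E) (hs : s ≠ 0)
    (htr : E.trace = (Fintype.card X : ℂ)) (_D : Datum X p q m) :
    ∃ f : ℕ, (f : ℂ) * s = (Fintype.card X : ℂ) ∧ f ≠ 0 := by
  obtain ⟨f, hf⟩ := trace_idempotent (s⁻¹ • E) (by
    rw [smul_mul_assoc, mul_smul_comm, hEE, smul_smul, smul_smul]
    congr 1
    field_simp)
  rw [Matrix.trace_smul, htr, smul_eq_mul] at hf
  have h1 : (f : ℂ) * s = (Fintype.card X : ℂ) := by rw [← hf]; field_simp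
  refine ⟨f, h1, fun h0 => ?_⟩
  rw [h0] at h1
  have := D_card _D
  exact this (by simpa using h1.symm)
where
  D_card (D : Datum X p q m) : Fintype.card X ≠ 0 :=
    haveI := D.nonempty
    Fintype.card_ne_zero

theorem mult_even (d : ℕ) (hd : 2 ≤ d) (hm : m = 2 * d) {z r : ℂ} (h : D.Par z r)
    (hz : z ^ (2 * d) = 1)
    (hne : ((p : ℂ) * q + 1 - r * (z + z⁻¹)) * ((p : ℂ) + q + r * (z + z⁻¹)) ≠ 0) :
    ∃ f : ℕ, f ≠ 0 ∧ (Fintype.card X : ℂ) * (4 * p * q - (r * (z + z⁻¹)) ^ 2) =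
      f * m * (((p : ℂ) * q + 1 - r * (z + z⁻¹)) * ((p : ℂ) + q + r * (z + z⁻¹))) := by
  obtain ⟨k, rfl⟩ : ∃ k, d = k + 2 := ⟨d - 2, by omega⟩
  have hp := D.p_ne
  have hp1 := D.p1_ne
  have hr := D.r_ne h
  have hz0 := h.z0
  have hzd : z ^ (k + 2) = z⁻¹ ^ (k + 2) := by
    rw [inv_pow]
    refine eq_inv_of_mul_eq_one_left ?_
    rw [← pow_add, ← hz]
    congr 1
    omega
  set E := (∑ i ∈ range (k + 2), D.e z r i • D.M i) +
    (D.e z r (k + 2) / ((p : ℂ) + 1)) • D.M (k + 2) with hE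
  have hlast : D.e z r (k + 1) + ((q : ℂ) - 1) * D.e z r (k + 2) =
      θ D z r * (D.e z r (k + 2) / ((p : ℂ) + 1)) := by
    rw [D.e_succ (k + 1), D.e_succ k, θ]
    have h1 : z ^ 2 - 1 ≠ 0 := sub_ne_zero.2 h.z2
    have h2 : 1 - z ^ 2 ≠ 0 := sub_ne_zero.2 (Ne.symm h.z2)
    have hk1 : z ^ (k + 1) = z ^ (k + 2) * z⁻¹ := by
      rw [pow_succ z (k + 1), mul_assoc, mul_inv_cancel₀ hz0, mul_one]
    have hk2 : z⁻¹ ^ (k + 1) = z ^ (k + 2) * z := by
      rw [hzd, pow_succ z⁻¹ (k + 1), mul_assoc, inv_mul_cancel₀ hz0, mul_one]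
    simp only [w]
    rw [hk1, hk2, ← hzd, show r ^ (k + 1 + 1) = r ^ (k + 1) * r from pow_succ r (k + 1)]
    generalize z ^ (k + 2) = u
    field_simp
    ring
  have hLE : D.L * E = θ D z r • E := by
    rw [hE, mul_add, D.L_sum h k, mul_smul_comm, D.boundary_even hm, smul_add]
    match_scalars
    · ring
    · field_simp at hlast ⊢
      linear_combination hlast
    · field_simp
      ring
  have hJE : D.J * E = ((p : ℂ) + 1) • E := by
    rw [hE, mul_add, mul_sum, smul_add, smul_sum]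
    congr 1
    · exact sum_congr rfl fun i _ => by rw [mul_smul_comm, D.J_mul_M, smul_comm]
    · rw [mul_smul_comm, D.J_mul_M, smul_comm]
  have hME : ∀ i, D.M i * E =
      (if i = 0 then (p : ℂ) + 1 else ((p : ℂ) + 1) * (r ^ i * D.w z r i)) • E := by
    intro i
    rcases i with _ | i
    · simpa [M] using hJE
    · simpa using D.M_mul_eigen z r h hJE hLE i
  have hEE : E * E = ((∑ i ∈ range (k + 2), (p : ℂ) * D.w z r i ^ 2) - (p : ℂ) * D.w z r 0 ^ 2 +
      ((p : ℂ) + 1) + (p : ℂ) / ((p : ℂ) + 1) * D.w z r (k + 2) ^ 2) • E := by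
    nth_rw 1 [hE]
    rw [add_mul, sum_mul]
    simp only [smul_mul_assoc, hME, smul_smul]
    rw [← sum_smul, ← add_smul]
    congr 1
    rw [sum_range_succ', sum_range_succ' (fun i => (p : ℂ) * D.w z r i ^ 2)]
    simp only [D.e_zero, Nat.succ_ne_zero, if_true, if_false]
    have : ∀ i ∈ range (k + 1), D.e z r (i + 1) * (((p : ℂ) + 1) * (r ^ (i + 1) * D.w z r (i + 1)))
        = (p : ℂ) * D.w z r (i + 1) ^ 2 := by
      intro i _
      rw [D.e_succ]
      field_simp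
    rw [sum_congr rfl this, D.e_succ (k + 1)]
    field_simp
    ring
  have hwd : D.w z r (k + 2) ^ 2 = D.w z r 0 ^ 2 := by
    simp only [w, ← hzd, pow_zero, mul_one]
    rw [← add_mul, mul_pow, ← pow_mul, mul_comm (k + 2) 2, hz, mul_one]
  have hsum : (∑ i ∈ range (k + 2), (p : ℂ) * D.w z r i ^ 2) - (p : ℂ) * D.w z r 0 ^ 2 +
      ((p : ℂ) + 1) + (p : ℂ) / ((p : ℂ) + 1) * D.w z r (k + 2) ^ 2 =
      (p : ℂ) * (m * ((z ^ 2 + ((q : ℂ) - 1) / r * z + -1 / (p : ℂ)) / (z ^ 2 - 1)) *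
        ((1 + ((q : ℂ) - 1) / r * z + -1 / (p : ℂ) * z ^ 2) / (1 - z ^ 2))) := by
    rw [hwd, D.w_zero h, ← mul_sum]
    simp only [w]
    rw [sum_sq _ _ _ hz0, geom_zero h.z2 (by rw [← pow_mul]; exact hz), geom_zero (x := z⁻¹ ^ 2)
      (by rw [inv_pow]; simpa using h.z2) (by rw [← pow_mul, inv_pow, hz, inv_one]), hm]
    push_cast
    field_simp
    ring
  rw [hsum] at hEE
  generalize hσ : (p : ℂ) * (m * ((z ^ 2 + ((q : ℂ) - 1) / r * z + -1 / (p : ℂ)) / (z ^ 2 - 1)) *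
        ((1 + ((q : ℂ) - 1) / r * z + -1 / (p : ℂ) * z ^ 2) / (1 - z ^ 2))) = σ at hEE
  have key : σ * (4 * p * q - (r * (z + z⁻¹)) ^ 2) =
      m * (((p : ℂ) * q + 1 - r * (z + z⁻¹)) * ((p : ℂ) + q + r * (z + z⁻¹))) := by
    rw [← hσ]
    have hq : (q : ℂ) = r ^ 2 / p := by rw [h.r2]; field_simp
    rw [hq]
    have h1 : z ^ 2 - 1 ≠ 0 := sub_ne_zero.2 h.z2
    have h2 : 1 - z ^ 2 ≠ 0 := sub_ne_zero.2 (Ne.symm h.z2)
    field_simp
    ring
  have hσ0 : σ ≠ 0 := by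
    intro h0
    rw [h0, zero_mul] at key
    exact mul_ne_zero (by exact_mod_cast (by omega : m ≠ 0)) hne key.symm
  obtain ⟨f, hf, hf0⟩ := multiplicity hEE hσ0 (by
    rw [hE, Matrix.trace_add, Matrix.trace_sum, Matrix.trace_smul, sum_range_succ']
    simp only [Matrix.trace_smul]
    rw [D.trace_M (j := k + 1) (by omega), D.trace_J (by omega), D.e_zero, smul_zero, one_smul,
      sum_eq_zero fun i hi => ?_]
    · simp
    · rw [D.trace_M (j := i) (by have := mem_range.1 hi; omega), smul_zero]) D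
  refine ⟨f, hf0, ?_⟩
  linear_combination (f : ℂ) * key - (4 * (p : ℂ) * q - (r * (z + z⁻¹)) ^ 2) * hf

theorem mult_odd (d : ℕ) (hd : 2 ≤ d) (hm : m = 2 * d + 1) (hpq : p = q) {z : ℂ}
    (h : D.Par z (p : ℂ)) (hz : z ^ (2 * d + 1) = 1)
    (hne : (p : ℂ) * (2 - (z + z⁻¹)) + ((p : ℂ) - 1) ^ 2 ≠ 0) :
    ∃ f : ℕ, f ≠ 0 ∧ (Fintype.card X : ℂ) * ((p : ℂ) * (2 - (z + z⁻¹))) =
      f * m * ((p : ℂ) * (2 - (z + z⁻¹)) + ((p : ℂ) - 1) ^ 2) := by
  obtain ⟨k, rfl⟩ : ∃ k, d = k + 2 := ⟨d - 2, by omega⟩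
  subst hpq
  have hp := D.p_ne
  have hp1 := D.p1_ne
  have hz0 := h.z0
  have h1 : z ^ 2 - 1 ≠ 0 := sub_ne_zero.2 h.z2
  have h2 : 1 - z ^ 2 ≠ 0 := sub_ne_zero.2 (Ne.symm h.z2)
  have hzd : z⁻¹ ^ (k + 2) = z ^ (k + 2) * z := by
    rw [inv_pow]
    refine inv_eq_of_mul_eq_one_left ?_
    rw [← pow_succ, ← pow_add, ← hz]
    congr 1
    omega
  set E := ∑ i ∈ range (k + 3), D.e z (p : ℂ) i • D.M i with hE
  have hlast : D.e z (p : ℂ) (k + 3) = D.e z (p : ℂ) (k + 2) := by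
    rw [D.e_succ (k + 2), D.e_succ (k + 1)]
    simp only [w]
    rw [pow_succ z⁻¹ (k + 2), hzd, pow_succ z (k + 2), pow_succ (p : ℂ) (k + 2)]
    generalize z ^ (k + 2) = u
    field_simp
    ring
  have hLE : D.L * E = θ D z (p : ℂ) • E := by
    rw [hE, D.L_sum h (k + 1), D.boundary_odd hm, hlast]
    match_scalars <;> ring
  have hJE : D.J * E = ((p : ℂ) + 1) • E := by
    rw [hE, mul_sum, smul_sum]
    exact sum_congr rfl fun i _ => by rw [mul_smul_comm, D.J_mul_M, smul_comm]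
  have hEE : E * E = ((∑ i ∈ range (k + 3), (p : ℂ) * D.w z (p : ℂ) i ^ 2) -
      (p : ℂ) * D.w z (p : ℂ) 0 ^ 2 + ((p : ℂ) + 1)) • E := by
    nth_rw 1 [hE]
    rw [sum_mul, sum_range_succ', sum_range_succ' (fun i => (p : ℂ) * D.w z (p : ℂ) i ^ 2)]
    simp only [smul_mul_assoc, D.M_mul_eigen z _ h hJE hLE, D.e_zero, one_smul, smul_smul]
    rw [show D.M 0 * E = ((p : ℂ) + 1) • E from hJE, ← sum_smul, ← add_smul]
    congr 1
    have : ∀ i ∈ range (k + 2), D.e z (p : ℂ) (i + 1) *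
        (((p : ℂ) + 1) * ((p : ℂ) ^ (i + 1) * D.w z (p : ℂ) (i + 1)))
        = (p : ℂ) * D.w z (p : ℂ) (i + 1) ^ 2 := by
      intro i _
      rw [D.e_succ]
      field_simp
    rw [sum_congr rfl this]
    ring
  generalize hσ : (∑ i ∈ range (k + 3), (p : ℂ) * D.w z (p : ℂ) i ^ 2) -
      (p : ℂ) * D.w z (p : ℂ) 0 ^ 2 + ((p : ℂ) + 1) = σ at hEE
  have key : σ * ((p : ℂ) * (2 - (z + z⁻¹))) =
      m * ((p : ℂ) * (2 - (z + z⁻¹)) + ((p : ℂ) - 1) ^ 2) := by
    rw [← hσ, D.w_zero h, ← mul_sum]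
    simp only [w]
    have hg1 : ∑ i ∈ range (k + 3), (z ^ 2) ^ i = (z - 1) / (z ^ 2 - 1) := by
      rw [geom_sum_eq h.z2, ← pow_mul]
      congr 2
      rw [show 2 * (k + 3) = (2 * (k + 2) + 1) + 1 by omega, pow_succ, hz, one_mul]
    have hg2 : ∑ i ∈ range (k + 3), (z⁻¹ ^ 2) ^ i = (z⁻¹ - 1) / (z⁻¹ ^ 2 - 1) := by
      rw [geom_sum_eq (by rw [inv_pow]; simpa using h.z2), ← pow_mul]
      congr 2
      rw [show 2 * (k + 3) = (2 * (k + 2) + 1) + 1 by omega, pow_succ, inv_pow, hz, inv_one, one_mul]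
    rw [sum_sq _ _ _ hz0, hg1, hg2, hm]
    have h3 : z⁻¹ ^ 2 - 1 ≠ 0 := by
      rw [inv_pow, sub_ne_zero]; simpa using h.z2
    push_cast
    field_simp
    ring
  have hσ0 : σ ≠ 0 := by
    intro h0
    rw [h0, zero_mul] at key
    exact mul_ne_zero (by exact_mod_cast (by omega : m ≠ 0)) hne key.symm
  obtain ⟨f, hf, hf0⟩ := multiplicity hEE hσ0 (by
    rw [hE, Matrix.trace_sum, sum_range_succ']
    simp only [Matrix.trace_smul]
    rw [D.trace_J (by omega), D.e_zero, one_smul, sum_eq_zero fun i hi => ?_]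
    · simp
    · rw [D.trace_M (j := i) (by have := mem_range.1 hi; omega), smul_zero]) D
  refine ⟨f, hf0, ?_⟩
  linear_combination (f : ℂ) * key - ((p : ℂ) * (2 - (z + z⁻¹))) * hf

end Datum

end CfsgLib.FeitHigman
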