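import Cfsg.Agent.Lib.BN.Coxeter
import Cfsg.Agent.Lib.FeitHigman.Spectral

/-! The Hecke datum of a finite (B,N)-pair of rank two. -/

set_option autoImplicit false

namespace CfsgLib.FeitHigman

open CfsgLib.BN

variable {G : Type*} [Group G] [Finite G] (P : Cfsg.BNPair G)

noncomputable instance : Fintype (G ⧸ P.B) := Fintype.ofFinite _

noncomputable instance : DecidableEq (G ⧸ P.B) := Classical.decEq _

open Classical in
/-- The indicator matrix of a Bruhat cell on the cosets of `B`. -/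
noncomputable def T (q : Weyl P) : Matrix (G ⧸ P.B) (G ⧸ P.B) ℂ :=
  Matrix.of fun x y => if x.out⁻¹ * y.out ∈ cell P q then 1 else 0

omit [Finite G] in
theorem mem_out_iff (g h : G) (q : Weyl P) :
    (g : G ⧸ P.B).out⁻¹ * (h : G ⧸ P.B).out ∈ cell P q ↔ g⁻¹ * h ∈ cell P q := by
  obtain ⟨⟨a, ha⟩, hga⟩ := QuotientGroup.mk_out_eq_mul P.B g
  obtain ⟨⟨b, hb⟩, hhb⟩ := QuotientGroup.mk_out_eq_mul P.B h
  have h1 : (g : G ⧸ P.B).out⁻¹ * (h : G ⧸ P.B).out = a⁻¹ * (g⁻¹ * h) * b := by
    rw [hga, hhb]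
    simp [mul_assoc]
  rw [h1]
  constructor
  · intro hm
    have := cell_mul_B P (P.B.inv_mem hb) (B_mul_cell P ha hm)
    simpa [mul_assoc] using this
  · exact fun hm => cell_mul_B P hb (B_mul_cell P (P.B.inv_mem ha) hm)

open Classical in
theorem T_apply (g h : G) (q : Weyl P) :
    T P q (g : G ⧸ P.B) (h : G ⧸ P.B) = if g⁻¹ * h ∈ cell P q then 1 else 0 := by
  simp only [T, Matrix.of_apply, mem_out_iff]

open Classical in
theorem mk_eq_iff (g h : G) : (g : G ⧸ P.B) = (h : G ⧸ P.B) ↔ g⁻¹ * h ∈ cell P 1 := by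
  rw [QuotientGroup.eq, cell_one]
  rfl

open Classical in
theorem T_one : T P 1 = (1 : Matrix (G ⧸ P.B) (G ⧸ P.B) ℂ) := by
  ext x y
  obtain ⟨g, rfl⟩ := QuotientGroup.mk_surjective x
  obtain ⟨h, rfl⟩ := QuotientGroup.mk_surjective y
  rw [T_apply, Matrix.one_apply, ← mk_eq_iff]

open Classical in
theorem trace_T {q : Weyl P} (hq : q ≠ 1) : (T P q).trace = 0 := by
  refine Finset.sum_eq_zero fun x _ => ?_
  obtain ⟨g, rfl⟩ := QuotientGroup.mk_surjective x
  rw [Matrix.diag_apply, T_apply, if_neg]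
  intro h
  refine hq (cell_unique P h ?_)
  rw [cell_one, inv_mul_cancel]
  exact P.B.one_mem

/-- The number of cosets in a cell. -/
noncomputable def cnum (s : P.S) : ℕ :=
  Nat.card {y : G ⧸ P.B // y.out ∈ cell P (σ P s)}

omit [Finite G] in
theorem out_mem_iff (h : G) (q : Weyl P) : (h : G ⧸ P.B).out ∈ cell P q ↔ h ∈ cell P q := by
  obtain ⟨⟨b, hb⟩, hhb⟩ := QuotientGroup.mk_out_eq_mul P.B h
  rw [hhb]
  exact ⟨fun hm => by simpa using cell_mul_B P (P.B.inv_mem hb) hm, fun hm => cell_mul_B P hb hm⟩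

open Classical in
theorem card_row (g : G) (s : P.S) :
    (Finset.univ.filter fun y : G ⧸ P.B => g⁻¹ * y.out ∈ cell P (σ P s)).card = cnum P s := by
  rw [← Fintype.card_subtype, ← Nat.card_eq_fintype_card, cnum]
  refine Nat.card_congr (Equiv.subtypeEquiv (MulAction.toPerm g⁻¹) fun y => ?_)
  obtain ⟨h, rfl⟩ := QuotientGroup.mk_surjective y
  simp only [MulAction.toPerm_apply, MulAction.Quotient.smul_coe, smul_eq_mul, out_mem_iff]
  obtain ⟨⟨b, hb⟩, hhb⟩ := QuotientGroup.mk_out_eq_mul P.B h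
  rw [hhb, ← mul_assoc]
  exact ⟨fun hm => by simpa using cell_mul_B P (P.B.inv_mem hb) hm, fun hm => cell_mul_B P hb hm⟩

open Classical in
theorem T_mul_apply (p q : Weyl P) (g h : G) :
    (T P p * T P q) (g : G ⧸ P.B) (h : G ⧸ P.B) = ((Finset.univ.filter fun y : G ⧸ P.B =>
      g⁻¹ * y.out ∈ cell P p ∧ y.out⁻¹ * h ∈ cell P q).card : ℂ) := by
  rw [Matrix.mul_apply, Finset.card_filter, Nat.cast_sum]
  refine Finset.sum_congr rfl fun y _ => ?_
  conv_lhs => rw [← QuotientGroup.out_eq' y]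
  rw [T_apply, T_apply]
  split_ifs <;> simp_all

open Classical in
theorem T_mul_of_le (s : P.S) {q : Weyl P} (hq : len P q ≤ len P (σ P s * q)) :
    T P (σ P s) * T P q = T P (σ P s * q) := by
  ext x z
  obtain ⟨g, rfl⟩ := QuotientGroup.mk_surjective x
  obtain ⟨h, rfl⟩ := QuotientGroup.mk_surjective z
  rw [T_mul_apply, T_apply]
  split_ifs with hm
  · obtain ⟨u, hu, v, hv, huv⟩ := exists_factor P hm
    suffices H : (Finset.univ.filter fun y : G ⧸ P.B =>
        g⁻¹ * y.out ∈ cell P (σ P s) ∧ y.out⁻¹ * h ∈ cell P q) = {((g * u : G) : G ⧸ P.B)} by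
      rw [H]; simp
    obtain ⟨⟨b, hb⟩, hgb⟩ := QuotientGroup.mk_out_eq_mul P.B (g * u)
    ext y
    simp only [Finset.mem_filter, Finset.mem_univ, true_and, Finset.mem_singleton]
    constructor
    · rintro ⟨h1, h2⟩
      obtain ⟨k, rfl⟩ := QuotientGroup.mk_surjective y
      obtain ⟨⟨c, hc⟩, hkc⟩ := QuotientGroup.mk_out_eq_mul P.B k
      set y' := (k : G ⧸ P.B).out
      have hu' : u⁻¹ ∈ cell P (σ P s) := by simpa using inv_mem_cell P hu
      have h3 : u⁻¹ * (g⁻¹ * y') ∈ cell P 1 := by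
        rcases σ_mul_cell P s hu' h1 with h4 | h4
        · rwa [σ_mul_self] at h4
        · exfalso
          have h5 := σ_mul_cell_of_le P s hq h4 h2
          have e : u⁻¹ * (g⁻¹ * y') * (y'⁻¹ * h) = v := by
            rw [mul_assoc, mul_assoc g⁻¹, mul_inv_cancel_left, huv, inv_mul_cancel_left]
          rw [e] at h5
          exact σ_ne_one P s (mul_eq_right.1 (cell_unique P h5 hv))
      rw [eq_comm, mk_eq_iff, cell_one]
      rw [cell_one] at h3
      have e : (g * u)⁻¹ * k = u⁻¹ * (g⁻¹ * y') * c⁻¹ := by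
        rw [hkc]; simp [mul_assoc]
      show (g * u)⁻¹ * k ∈ P.B
      rw [e]
      exact P.B.mul_mem h3 (P.B.inv_mem hc)
    · rintro rfl
      rw [hgb]
      refine ⟨?_, ?_⟩
      · simpa [mul_assoc] using cell_mul_B P hb hu
      · have : (g * u * b)⁻¹ * h = b⁻¹ * v := by
          rw [mul_inv_rev, mul_inv_rev, mul_assoc, mul_assoc, huv, inv_mul_cancel_left]
        rw [this]
        exact B_mul_cell P (P.B.inv_mem hb) hv
  · rw [Nat.cast_eq_zero, Finset.card_eq_zero, Finset.filter_eq_empty_iff]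
    rintro y - ⟨h1, h2⟩
    have h5 := σ_mul_cell_of_le P s hq h1 h2
    rw [mul_assoc, mul_inv_cancel_left] at h5
    exact hm h5

open Classical in
theorem T_sq (s : P.S) : T P (σ P s) * T P (σ P s) =
    ((cnum P s : ℂ) - 1) • T P (σ P s) + (cnum P s : ℂ) • 1 := by
  ext x z
  obtain ⟨g, rfl⟩ := QuotientGroup.mk_surjective x
  obtain ⟨h, rfl⟩ := QuotientGroup.mk_surjective z
  rw [T_mul_apply, Matrix.add_apply, Matrix.smul_apply, Matrix.smul_apply, T_apply, ← T_one,
    T_apply]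
  by_cases h1 : g⁻¹ * h ∈ cell P 1
  · have h0 : g⁻¹ * h ∉ cell P (σ P s) := fun hc => σ_ne_one P s (cell_unique P hc h1)
    rw [if_neg h0, if_pos h1]
    simp only [smul_eq_mul, mul_zero, zero_add, mul_one, Nat.cast_inj]
    refine Eq.trans ?_ (card_row P g s)
    refine congrArg Finset.card (Finset.filter_congr fun y _ => ?_)
    refine ⟨fun hy => hy.1, fun hy => ⟨hy, ?_⟩⟩
    rw [cell_one] at h1
    have := cell_mul_B P h1 (inv_mem_cell P hy)
    simpa [mul_assoc] using this
  by_cases h2 : g⁻¹ * h ∈ cell P (σ P s)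
  · rw [if_pos h2, if_neg h1]
    simp only [smul_eq_mul, mul_zero, add_zero, mul_one]
    have hsub : (Finset.univ.filter fun y : G ⧸ P.B =>
        g⁻¹ * y.out ∈ cell P (σ P s) ∧ y.out⁻¹ * h ∈ cell P (σ P s)) =
        (Finset.univ.filter fun y : G ⧸ P.B => g⁻¹ * y.out ∈ cell P (σ P s)).erase (h : G ⧸ P.B) := by
      ext y
      simp only [Finset.mem_filter, Finset.mem_univ, true_and, Finset.mem_erase, ne_eq]
      constructor
      · rintro ⟨hy1, hy2⟩
        refine ⟨fun he => ?_, hy1⟩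
        obtain ⟨⟨b, hb⟩, hhb⟩ := QuotientGroup.mk_out_eq_mul P.B h
        rw [he, hhb, mul_inv_rev, mul_assoc, inv_mul_cancel, mul_one] at hy2
        exact σ_ne_one P s (cell_unique P hy2 (by rw [cell_one]; exact P.B.inv_mem hb))
      · rintro ⟨hne, hy1⟩
        refine ⟨hy1, ?_⟩
        have hi : (g⁻¹ * y.out)⁻¹ ∈ cell P (σ P s) := by simpa using inv_mem_cell P hy1
        rcases σ_mul_cell P s hi h2 with h4 | h4
        · exfalso
          rw [σ_mul_self] at h4
          refine hne ?_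
          conv_lhs => rw [← QuotientGroup.out_eq' y]
          rw [mk_eq_iff]
          simpa [mul_assoc] using h4
        · simpa [mul_assoc] using h4
    rw [hsub, Finset.card_erase_of_mem ?_, card_row]
    · have h1' : 1 ≤ cnum P s := by
        rw [← card_row P g s]
        refine Finset.card_pos.2 ⟨(h : G ⧸ P.B), ?_⟩
        simp only [Finset.mem_filter, Finset.mem_univ, true_and]
        obtain ⟨⟨b, hb⟩, hhb⟩ := QuotientGroup.mk_out_eq_mul P.B h
        rw [hhb, ← mul_assoc]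
        exact cell_mul_B P hb h2
      rw [Nat.cast_sub h1', Nat.cast_one]
    · simp only [Finset.mem_filter, Finset.mem_univ, true_and]
      obtain ⟨⟨b, hb⟩, hhb⟩ := QuotientGroup.mk_out_eq_mul P.B h
      rw [hhb, ← mul_assoc]
      exact cell_mul_B P hb h2
  · rw [if_neg h1, if_neg h2]
    simp only [smul_eq_mul, mul_zero, add_zero, Nat.cast_eq_zero, Finset.card_eq_zero,
      Finset.filter_eq_empty_iff]
    rintro y - ⟨hy1, hy2⟩
    rcases σ_mul_cell P s hy1 hy2 with h4 | h4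
    · rw [σ_mul_self, mul_assoc, mul_inv_cancel_left] at h4
      exact h1 h4
    · rw [mul_assoc, mul_inv_cancel_left] at h4
      exact h2 h4

open Classical in
theorem row_sum (s : P.S) :
    T P (σ P s) * (Matrix.of fun (_ _ : G ⧸ P.B) => (1 : ℂ)) =
      (cnum P s : ℂ) • Matrix.of fun (_ _ : G ⧸ P.B) => (1 : ℂ) := by
  ext x z
  obtain ⟨g, rfl⟩ := QuotientGroup.mk_surjective x
  simp only [Matrix.mul_apply, Matrix.of_apply, mul_one, Matrix.smul_apply, smul_eq_mul]
  rw [← card_row P g s, Finset.card_filter, Nat.cast_sum]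
  refine Finset.sum_congr rfl fun y _ => ?_
  conv_lhs => rw [← QuotientGroup.out_eq' y]
  rw [T_apply]
  split_ifs <;> simp_all

theorem two_le_cnum (s : P.S) : 2 ≤ cnum P s := by
  classical
  by_contra hlt
  have hsub : Subsingleton {y : G ⧸ P.B // y.out ∈ cell P (σ P s)} :=
    Finite.card_le_one_iff_subsingleton.1 (by rw [cnum] at hlt; omega)
  have hB : ∀ b ∈ P.B, (s : G)⁻¹ * b * s ∈ P.B := by
    intro b hb
    have h1 : ((s : G) : G ⧸ P.B) = ((b * s : G) : G ⧸ P.B) :=
      congrArg Subtype.val (hsub.elim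
        (⟨_, (out_mem_iff P _ _).2 (self_mem_cell_σ P s)⟩ :
          {y : G ⧸ P.B // y.out ∈ cell P (σ P s)})
        ⟨_, (out_mem_iff P _ _).2 (B_mul_cell P hb (self_mem_cell_σ P s))⟩)
    rw [QuotientGroup.eq] at h1
    simpa [mul_assoc] using h1
  refine P.conj_ne s.1 s.2 (Set.eq_of_subset_of_ncard_le ?_ ?_ (Set.toFinite _))
  · rintro _ ⟨b, hb, rfl⟩
    have h := P.B.mul_mem (P.sq_mem s.1 s.2) (hB b hb)
    have e : (s : G) * s * ((s : G)⁻¹ * b * s) = (s : G) * b * s := by group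
    rw [e] at h
    exact h
  · rw [Set.ncard_image_of_injective]
    intro a b hab
    simpa using hab

/-! ### The dihedral group -/

variable {x y : P.S}

omit [Finite G] in
theorem conj_u (x y : P.S) :
    σ P x * (σ P x * σ P y) * σ P x = (σ P x * σ P y)⁻¹ := by
  rw [mul_inv_rev, σ_inv, σ_inv, σ_mul_σ_mul]

omit [Finite G] in
theorem notMem_zpowers (hne : x ≠ y) : σ P x ∉ Subgroup.zpowers (σ P x * σ P y) := by
  rintro ⟨k, hk⟩
  change (σ P x * σ P y) ^ k = σ P x at hk
  have hcomm : Commute ((σ P x * σ P y) ^ k) (σ P x * σ P y) :=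
    (Commute.refl (σ P x * σ P y)).zpow_left k
  rw [hk] at hcomm
  have hc : σ P x * (σ P x * σ P y) = (σ P x * σ P y) * σ P x := hcomm.eq
  have h2 : (σ P x * σ P y)⁻¹ = σ P x * σ P y := by
    rw [← conj_u P x y, hc, mul_assoc, σ_mul_self, mul_one]
  have hsq : (σ P x * σ P y) ^ (2 : ℤ) = 1 := by
    rw [zpow_two]; nth_rw 1 [← h2]; exact inv_mul_cancel _
  rw [← Int.emod_add_mul_ediv k 2, zpow_add, zpow_mul, hsq, one_zpow, mul_one] at hk
  rcases Int.emod_two_eq_zero_or_one k with h | h <;> rw [h] at hk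
  · rw [zpow_zero] at hk
    exact σ_ne_one P x hk.symm
  · rw [zpow_one] at hk
    exact σ_ne_one P y (mul_eq_left.1 hk)

omit [Finite G] in
theorem wd_alt (x y : P.S) : ∀ n : ℕ,
    wd P (alt x y n) = (σ P x * σ P y) ^ ((n / 2 : ℕ) : ℤ) * σ P x ^ (n % 2) ∧
    wd P (alt y x n) = (σ P x * σ P y) ^ (-(((n + 1) / 2 : ℕ) : ℤ)) * σ P x ^ (n % 2)
  | 0 => by simp [alt]
  | n + 1 => by
    obtain ⟨h1, h2⟩ := wd_alt x y n
    have hx : ∀ k : ℤ, σ P x * (σ P x * σ P y) ^ k = (σ P x * σ P y) ^ (-k) * σ P x := by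
      intro k
      have h := conj_zpow (a := σ P x) (b := σ P x * σ P y) (i := k)
      rw [σ_inv, conj_u, inv_zpow, ← zpow_neg] at h
      rw [h, mul_assoc, σ_mul_self, mul_one]
    have hy : ∀ k : ℤ, σ P y * (σ P x * σ P y) ^ k =
        (σ P x * σ P y) ^ (-(k + 1)) * σ P x := by
      intro k
      have e : σ P y = σ P x * (σ P x * σ P y) := (σ_mul_σ_mul P x _).symm
      nth_rw 1 [e]
      rw [mul_assoc, ← zpow_one_add, hx, add_comm]
    have hmod : ∀ z : Weyl P, z * σ P x * σ P x ^ (n % 2) = z * σ P x ^ ((n + 1) % 2) := by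
      intro z
      rcases Nat.mod_two_eq_zero_or_one n with h | h
      · rw [h, show (n + 1) % 2 = 1 by omega, pow_zero, mul_one, pow_one]
      · rw [h, show (n + 1) % 2 = 0 by omega, pow_one, pow_zero, mul_one, mul_assoc, σ_mul_self,
          mul_one]
    constructor
    · rw [alt, wd_cons, h2, ← mul_assoc, hx, neg_neg, hmod]
    · rw [alt, wd_cons, h1, ← mul_assoc, hy, hmod]
      congr 3
      omega

omit [Finite G] in
/-- Reduced words alternate. -/
theorem red_eq_alt (hne : x ≠ y) (hall : ∀ s : P.S, s = x ∨ s = y) :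
    ∀ l : List P.S, Red P l → l = alt x y l.length ∨ l = alt y x l.length
  | [], _ => Or.inl rfl
  | s :: t, h => by
    rcases t with _ | ⟨c, r⟩
    · rcases hall s with rfl | rfl
      · exact Or.inl rfl
      · exact Or.inr rfl
    have hsc : s ≠ c := by
      rintro rfl
      have h1 : len P (wd P (s :: s :: r)) ≤ r.length := by
        rw [wd_cons, wd_cons, σ_mul_σ_mul]; exact len_le P r
      simp only [Red, List.length_cons] at h
      omega
    rcases red_eq_alt hne hall (c :: r) (Red.tail P h) with e | e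
    · have hc : c = x := by simpa [alt] using congrArg List.head? e
      have hs : s = y := (hall s).resolve_left (hc ▸ hsc)
      right
      rw [List.length_cons, alt, hs, ← e]
    · have hc : c = y := by simpa [alt] using congrArg List.head? e
      have hs : s = x := (hall s).resolve_right (hc ▸ hsc)
      left
      rw [List.length_cons, alt, hs, ← e]

omit [Finite G] in
theorem red_alt (hne : x ≠ y) (hall : ∀ s : P.S, s = x ∨ s = y) {n : ℕ}
    (hn : n ≤ orderOf (σ P x * σ P y)) : Red P (alt x y n) := by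
  refine le_antisymm (len_le P _) ?_
  by_contra hlt
  push Not at hlt
  obtain ⟨l, hl, hl'⟩ := exists_reduced P (wd P (alt x y n))
  have hred : Red P l := by rw [Red, hl', hl]
  rw [alt_length] at hlt
  have hkey : ∀ (k : ℤ) (e : ℕ), (σ P x * σ P y) ^ k * σ P x ^ (e % 2) = wd P (alt x y n) →
      e % 2 = n % 2 ∧ ((orderOf (σ P x * σ P y) : ℤ) ∣ ((n / 2 : ℕ) : ℤ) - k) := by
    intro k e he
    rw [(wd_alt P x y n).1] at he
    have hpar : e % 2 = n % 2 := by
      by_contra hpar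
      refine notMem_zpowers P hne ?_
      rcases Nat.mod_two_eq_zero_or_one e with h | h
      · rw [h, show n % 2 = 1 by omega, pow_zero, mul_one, pow_one] at he
        have hmem : ((σ P x * σ P y) ^ ((n / 2 : ℕ) : ℤ))⁻¹ * (σ P x * σ P y) ^ k ∈
            Subgroup.zpowers (σ P x * σ P y) :=
          mul_mem (inv_mem (Subgroup.zpow_mem _ (Subgroup.mem_zpowers _) _))
            (Subgroup.zpow_mem _ (Subgroup.mem_zpowers _) _)
        rwa [inv_mul_eq_iff_eq_mul.2 he] at hmem
      · rw [h, show n % 2 = 0 by omega, pow_zero, mul_one, pow_one] at he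
        have hmem : ((σ P x * σ P y) ^ k)⁻¹ * (σ P x * σ P y) ^ ((n / 2 : ℕ) : ℤ) ∈
            Subgroup.zpowers (σ P x * σ P y) :=
          mul_mem (inv_mem (Subgroup.zpow_mem _ (Subgroup.mem_zpowers _) _))
            (Subgroup.zpow_mem _ (Subgroup.mem_zpowers _) _)
        rwa [inv_mul_eq_iff_eq_mul.2 he.symm] at hmem
    refine ⟨hpar, ?_⟩
    rw [hpar] at he
    rw [orderOf_dvd_iff_zpow_eq_one, zpow_sub, ← mul_right_cancel he, mul_inv_cancel]
  have hlen : l.length < n := by omega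
  rcases red_eq_alt P hne hall l hred with e | e <;> rw [e] at hl'
  · rw [(wd_alt P x y l.length).1] at hl'
    obtain ⟨hpar, hdvd⟩ := hkey _ _ hl'
    have := Int.eq_zero_of_abs_lt_dvd hdvd (by rw [abs_lt]; omega)
    omega
  · rw [(wd_alt P x y l.length).2] at hl'
    obtain ⟨hpar, hdvd⟩ := hkey _ _ hl'
    have := Int.eq_zero_of_abs_lt_dvd hdvd (by rw [abs_lt]; omega)
    omega

theorem aw_T (hne : x ≠ y) (hall : ∀ s : P.S, s = x ∨ s = y) :
    ∀ n, n ≤ orderOf (σ P x * σ P y) →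
      aw (T P (σ P x)) (T P (σ P y)) n = T P (wd P (alt x y n)) := by
  intro n
  induction n generalizing x y with
  | zero => intro _; simp [aw, alt, T_one]
  | succ n ih =>
    intro hn
    have hord : orderOf (σ P y * σ P x) = orderOf (σ P x * σ P y) := by
      rw [show σ P y * σ P x = (σ P x * σ P y)⁻¹ by simp, orderOf_inv]
    have hall' : ∀ s : P.S, s = y ∨ s = x := fun s => (hall s).symm
    show T P (σ P x) * aw (T P (σ P y)) (T P (σ P x)) n = _
    rw [ih hne.symm hall' (by omega), T_mul_of_le, alt, wd_cons]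
    have h1 : Red P (alt x y (n + 1)) := red_alt P hne hall hn
    have h2 : len P (wd P (alt y x n)) ≤ n := (len_le P _).trans (by simp)
    simp only [Red, alt, wd_cons, List.length_cons, alt_length] at h1
    omega

theorem card_weyl (hne : x ≠ y) (hall : ∀ s : P.S, s = x ∨ s = y) :
    Nat.card (Weyl P) = 2 * orderOf (σ P x * σ P y) := by
  rw [← (Subgroup.zpowers (σ P x * σ P y)).card_mul_index, Nat.card_zpowers, mul_comm 2]
  congr 1
  rw [Subgroup.index_eq_two_iff]
  refine ⟨σ P x, fun w => ?_⟩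
  obtain ⟨l, hl, rfl⟩ := exists_reduced P w
  have hk : ∃ (k : ℤ) (e : ℕ),
      wd P l = (σ P x * σ P y) ^ k * σ P x ^ (e % 2) := by
    rcases red_eq_alt P hne hall l hl.symm with e | e <;> rw [e]
    · exact ⟨_, _, (wd_alt P x y _).1⟩
    · exact ⟨_, _, (wd_alt P x y _).2⟩
  obtain ⟨k, e, hk⟩ := hk
  rw [hk]
  have hm : (σ P x * σ P y) ^ k ∈ Subgroup.zpowers (σ P x * σ P y) :=
    Subgroup.zpow_mem _ (Subgroup.mem_zpowers _) _
  have hn := notMem_zpowers P hne
  rcases Nat.mod_two_eq_zero_or_one e with h | h <;> rw [h]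
  · rw [pow_zero, mul_one]
    exact Or.inr ⟨hm, fun hc => hn ((Subgroup.mul_mem_cancel_left _ hm).1 hc)⟩
  · rw [pow_one, mul_assoc, σ_mul_self, mul_one]
    exact Or.inl ⟨hm, fun hc => hn ((Subgroup.mul_mem_cancel_left _ hm).1 hc)⟩

open Classical in
/-- The datum of a rank two (B,N)-pair. -/
theorem exists_datum (h2 : P.rank = 2) :
    ∃ m, 2 ≤ m ∧ Nat.card (Weyl P) = 2 * m ∧
      ∃ p q, Nonempty (Datum (G ⧸ P.B) p q m) ∧ (Odd m → p = q) := by
  obtain ⟨x, y, hne, huniv⟩ := Nat.card_eq_two_iff.1 h2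
  have hall : ∀ s : P.S, s = x ∨ s = y := fun s => by
    have h : s ∈ ({x, y} : Set P.S) := huniv ▸ Set.mem_univ s
    simpa using h
  have hall' : ∀ s : P.S, s = y ∨ s = x := fun s => (hall s).symm
  have hord : orderOf (σ P y * σ P x) = orderOf (σ P x * σ P y) := by
    rw [show σ P y * σ P x = (σ P x * σ P y)⁻¹ by simp, orderOf_inv]
  have hm2 : 2 ≤ orderOf (σ P x * σ P y) := by
    have h0 := orderOf_pos (σ P x * σ P y)
    have h1 : orderOf (σ P x * σ P y) ≠ 1 := by
      rw [ne_eq, orderOf_eq_one_iff]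
      intro h
      exact hne (σ_injective P (by rw [eq_inv_of_mul_eq_one_left h, σ_inv]))
    omega
  generalize hm : orderOf (σ P x * σ P y) = m at hm2
  have hbr : wd P (alt x y m) = wd P (alt y x m) := by
    rw [(wd_alt P x y m).1, (wd_alt P x y m).2, mul_left_inj, ← mul_inv_eq_one, ← zpow_neg, neg_neg,
      ← zpow_add, ← Nat.cast_add, zpow_natCast, show m / 2 + (m + 1) / 2 = m by omega, ← hm,
      pow_orderOf_eq_one]
  have e1 : ∀ n ≤ m, aw (T P (σ P x)) (T P (σ P y)) n = T P (wd P (alt x y n)) :=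
    fun n hn => aw_T P hne hall n (by omega)
  have e2 : ∀ n ≤ m, aw (T P (σ P y)) (T P (σ P x)) n = T P (wd P (alt y x n)) :=
    fun n hn => aw_T P hne.symm hall' n (by omega)
  have hne1 : ∀ {a b : P.S}, a ≠ b → (∀ s : P.S, s = a ∨ s = b) →
      orderOf (σ P a * σ P b) = m → ∀ n, 1 ≤ n → n ≤ m → wd P (alt a b n) ≠ 1 := by
    intro a b hab hall hord n hn1 hn h
    have := red_alt P hab hall (n := n) (by omega)
    simp only [Red, h, len_one, alt_length] at this
    omega
  refine ⟨m, hm2, by rw [card_weyl P hne hall, hm], cnum P x, cnum P y,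
    ⟨⟨T P (σ P x), T P (σ P y), ⟨((1 : G) : G ⧸ P.B)⟩, two_le_cnum P x, two_le_cnum P y,
      T_sq P x, T_sq P y, ?_, ?_, ?_⟩⟩, ?_⟩
  · rw [e1 m le_rfl, e2 m le_rfl, hbr]
  · intro n hn1 hn
    rw [e1 n hn]
    exact trace_T P (hne1 hne hall hm n hn1 hn)
  · intro n hn1 hn
    rw [e2 n hn]
    exact trace_T P (hne1 hne.symm hall' (hord.trans hm) n hn1 hn)
  · rintro ⟨d, rfl⟩
    have hsum : ∀ a b : P.S, aw (T P (σ P a)) (T P (σ P b)) (2 * d + 1) *
        (Matrix.of fun (_ _ : G ⧸ P.B) => (1 : ℂ)) =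
        (((cnum P a : ℂ) * cnum P b) ^ d * cnum P a) •
          Matrix.of fun (_ _ : G ⧸ P.B) => (1 : ℂ) := by
      intro a b
      rw [aw_odd, mul_assoc, row_sum, mul_smul_comm]
      have : ∀ k, (T P (σ P a) * T P (σ P b)) ^ k * (Matrix.of fun (_ _ : G ⧸ P.B) => (1 : ℂ)) =
          (((cnum P a : ℂ) * cnum P b) ^ k) • Matrix.of fun (_ _ : G ⧸ P.B) => (1 : ℂ) := by
        intro k
        induction k with
        | zero => simp
        | succ k ih =>
          rw [pow_succ, mul_assoc, mul_assoc, row_sum, mul_smul_comm, row_sum, mul_smul_comm,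
            mul_smul_comm, ih, smul_smul, smul_smul, pow_succ]
          congr 1
          ring
      rw [this, smul_smul, mul_comm]
    have h := congrArg (· * (Matrix.of fun (_ _ : G ⧸ P.B) => (1 : ℂ)))
      ((e1 _ le_rfl).trans ((congrArg (T P) hbr).trans (e2 _ le_rfl).symm))
    simp only [hsum] at h
    have h' := congrFun (congrFun h ((1 : G) : G ⧸ P.B)) ((1 : G) : G ⧸ P.B)
    simp only [Matrix.smul_apply, Matrix.of_apply, smul_eq_mul, mul_one] at h'
    rw [mul_comm (cnum P y : ℂ) (cnum P x)] at h'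
    have hp := two_le_cnum P x
    have hq := two_le_cnum P y
    exact_mod_cast mul_left_cancel₀ (pow_ne_zero _ (mul_ne_zero
      (by exact_mod_cast (by omega : cnum P x ≠ 0))
      (by exact_mod_cast (by omega : cnum P y ≠ 0)))) h'

end CfsgLib.FeitHigman
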